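import Mathlib

/-! The Lubin–Tate lemma: series commuting with `f = πT + T^q`, by successive approximation. -/

set_option autoImplicit false
universe u v w

open MvPowerSeries Finsupp

namespace LubinTateLib

variable {σ : Type v} [Fintype σ] {R : Type u} [CommRing R] (π : R) (q : ℕ)

/-- The series `π X_i + X_i ^ q`. -/
noncomputable def h (i : σ) : MvPowerSeries σ R := π • X i + X i ^ q

/-- The defect of `G` for commuting with `πT + T^q` (`ε = 1`), or scaling by `π` (`ε = 0`). -/
noncomputable def defect (ε : R) (G : MvPowerSeries σ R) : MvPowerSeries σ R :=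
  subst (h π q) G - π • G - ε • G ^ q

variable {π q}

theorem hasSubst_h (hq : q ≠ 0) : HasSubst (h (σ := σ) π q) :=
  hasSubst_of_constantCoeff_zero fun i => by simp [h, hq]

theorem le_order_of_coeff_eq_zero {H : MvPowerSeries σ R} {N : ℕ}
    (hH : ∀ d, degree d < N → coeff d H = 0) : (N : ℕ∞) ≤ H.order := nat_le_order hH

theorem coeff_subst_h_top (hq : 2 ≤ q) {H : MvPowerSeries σ R} {N : ℕ}
    (hH : ∀ d, degree d < N → coeff d H = 0) {e : σ →₀ ℕ} (he : degree e = N) :
    coeff e (subst (h π q) H) = π ^ N * coeff e H := by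
  classical
  have hprod : ∀ d : σ →₀ ℕ, (d.prod fun s n => (h π q s) ^ n) =
      monomial d 1 * d.prod fun s n => (C π + X s ^ (q - 1) : MvPowerSeries σ R) ^ n := by
    intro d
    rw [MvPowerSeries.monomial_one_eq, ← Finsupp.prod_mul]
    refine Finsupp.prod_congr fun s _ => ?_
    rw [← mul_pow]
    congr 1
    rw [h, smul_eq_C_mul, mul_add, ← pow_succ', Nat.sub_add_cancel (by omega), mul_comm]
  rw [coeff_subst (hasSubst_h (by omega)), finsum_eq_single _ e]
  · rw [hprod, coeff_monomial_mul, if_pos le_rfl, tsub_self, one_mul, smul_eq_mul, mul_comm]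
    congr 1
    rw [coeff_zero_eq_constantCoeff_apply, map_finsuppProd]
    simp only [map_pow, map_add, constantCoeff_C, constantCoeff_X, zero_pow (show q - 1 ≠ 0 by omega),
      add_zero]
    rw [Finsupp.prod, Finset.prod_pow_eq_pow_sum, ← he]
    rfl
  · intro d hd
    rw [hprod, coeff_monomial_mul]
    split_ifs with hle
    · have hlt : degree d < N := by
        have h1 : degree d + degree (e - d) = degree e := by rw [← map_add, add_tsub_cancel_of_le hle]
        have h2 : degree (e - d) ≠ 0 := by
          rw [ne_eq, Finsupp.degree_eq_zero_iff, tsub_eq_zero_iff_le]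
          exact fun h3 => hd (le_antisymm hle h3)
        omega
      rw [hH d hlt, zero_smul]
    · rw [smul_zero]

omit [Fintype σ] in
theorem coeff_mul_eq_zero {A B : MvPowerSeries σ R} {M : ℕ} (hA : (M : ℕ∞) ≤ A.order)
    (hB : B.constantCoeff = 0) {e : σ →₀ ℕ} (he : degree e ≤ M) : coeff e (A * B) = 0 := by
  refine coeff_of_lt_order (lt_of_lt_of_le ?_ le_order_mul)
  calc ((degree e : ℕ) : ℕ∞) < (M : ℕ∞) + 1 := by exact_mod_cast Nat.lt_succ_of_le he
    _ ≤ A.order + B.order := add_le_add hA (one_le_order_iff_constCoeff_eq_zero.2 hB)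

omit [Fintype σ] in
theorem coeff_pow_congr (hq : 2 ≤ q) {G G' : MvPowerSeries σ R} (hG : G.constantCoeff = 0)
    (hG' : G'.constantCoeff = 0) {N : ℕ} (hc : ∀ d, degree d < N → coeff d G = coeff d G')
    {e : σ →₀ ℕ} (he : degree e ≤ N) : coeff e (G ^ q) = coeff e (G' ^ q) := by
  rw [← sub_eq_zero, ← map_sub, ← geom_sum₂_mul]
  · rw [Finset.sum_mul, map_sum]
    refine Finset.sum_eq_zero fun i hi => ?_
    rw [Finset.mem_range] at hi
    rw [mul_comm]
    rcases Nat.eq_zero_or_pos i with rfl | hi0
    · exact coeff_mul_eq_zero (nat_le_order fun d hd => by rw [map_sub, hc d hd, sub_self])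
        (by rw [map_mul, map_pow, map_pow, hG', zero_pow (show q - 1 - 0 ≠ 0 by omega), mul_zero]) he
    · exact coeff_mul_eq_zero (nat_le_order fun d hd => by rw [map_sub, hc d hd, sub_self])
        (by rw [map_mul, map_pow, map_pow, hG, zero_pow (show i ≠ 0 by omega), zero_mul]) he

theorem coeff_defect_congr (hq : 2 ≤ q) (ε : R) {G G' : MvPowerSeries σ R} (hG : G.constantCoeff = 0)
    (hG' : G'.constantCoeff = 0) {N : ℕ} (hc : ∀ d, degree d < N → coeff d G = coeff d G')
    {e : σ →₀ ℕ} (he : degree e = N) :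
    coeff e (defect π q ε G) - coeff e (defect π q ε G') = (π ^ N - π) * (coeff e G - coeff e G') := by
  have h1 := coeff_subst_h_top (π := π) hq (H := G - G') (N := N)
    (fun d hd => by rw [map_sub, hc d hd, sub_self]) he
  rw [subst_sub (hasSubst_h (by omega)), map_sub, map_sub] at h1
  simp only [defect, map_sub, coeff_smul]
  rw [coeff_pow_congr hq hG hG' hc he.le]
  linear_combination h1

theorem defect_zero (hq : q ≠ 0) (ε : R) : defect π q ε (0 : MvPowerSeries σ R) = 0 := by
  rw [defect, zero_pow hq, smul_zero, smul_zero, ← coe_substAlgHom (hasSubst_h hq), map_zero, sub_zero,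
    sub_zero]

omit [Fintype σ] in
theorem exists_single_of_degree_eq_one {d : σ →₀ ℕ} (hd : degree d = 1) : ∃ i, d = single i 1 := by
  classical
  have hd0 : d ≠ 0 := by rintro rfl; simp at hd
  obtain ⟨i, hi⟩ := Finsupp.ne_iff.1 hd0
  simp only [Finsupp.coe_zero, Pi.zero_apply] at hi
  have hle : single i 1 ≤ d := Finsupp.single_le_iff.2 (Nat.one_le_iff_ne_zero.2 hi)
  refine ⟨i, ?_⟩
  have h1 : degree (single i 1) + degree (d - single i 1) = degree d := by
    rw [← map_add, add_tsub_cancel_of_le hle]
  rw [Finsupp.degree_single, hd] at h1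
  have h2 : d - single i 1 = 0 := (Finsupp.degree_eq_zero_iff _).1 (by omega)
  exact le_antisymm (tsub_eq_zero_iff_le.1 h2) hle

theorem eq_of_defect_eq (hq : 2 ≤ q) (ε : R) [IsDomain R] (hπ : ∀ N, 2 ≤ N → π ^ N ≠ π)
    {G G' : MvPowerSeries σ R} (hG : G.constantCoeff = 0) (hG' : G'.constantCoeff = 0)
    (hlin : ∀ i, coeff (single i 1) G = coeff (single i 1) G')
    (hd : defect π q ε G = defect π q ε G') : G = G' := by
  suffices hall : ∀ N, ∀ d : σ →₀ ℕ, degree d = N → coeff d G = coeff d G' by
    ext d; exact hall _ d rfl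
  intro N
  induction N using Nat.strong_induction_on with
  | _ N ih =>
  intro d hdN
  match N with
  | 0 =>
    rw [Finsupp.degree_eq_zero_iff] at hdN
    subst hdN
    rw [coeff_zero_eq_constantCoeff_apply, coeff_zero_eq_constantCoeff_apply, hG, hG']
  | 1 =>
    obtain ⟨i, rfl⟩ := exists_single_of_degree_eq_one hdN
    exact hlin i
  | N + 2 =>
    have h1 := coeff_defect_congr (π := π) hq ε hG hG'
      (fun d' hd' => ih (degree d') hd' d' rfl) hdN
    rw [hd, sub_self, eq_comm, mul_eq_zero, sub_eq_zero, sub_eq_zero] at h1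
    exact h1.resolve_left (hπ _ (by omega))

/-- The Lubin–Tate lemma. -/
theorem exists_defect_eq_zero (hq : 2 ≤ q) (ε : R)
    (hdiv : ∀ (G : MvPowerSeries σ R) (e : σ →₀ ℕ), 2 ≤ degree e →
      π ^ degree e - π ∣ coeff e (defect π q ε G))
    (L : σ → R) :
    ∃ G : MvPowerSeries σ R, G.constantCoeff = 0 ∧ (∀ i, coeff (single i 1) G = L i) ∧
      defect π q ε G = 0 := by
  classical
  choose! c hc using hdiv
  let G₀ : MvPowerSeries σ R := fun d => ∑ i, if d = single i 1 then L i else 0
  let step : ℕ → MvPowerSeries σ R → MvPowerSeries σ R := fun N G =>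
    fun d => if degree d = N then coeff d G - c G d else coeff d G
  let Gs : ℕ → MvPowerSeries σ R := fun N => Nat.rec G₀ (fun n G => step (n + 2) G) N
  have hstep : ∀ N G d, coeff d (step N G) = if degree d = N then coeff d G - c G d else coeff d G :=
    fun N G d => rfl
  have hG₀ : ∀ d : σ →₀ ℕ, degree d ≠ 1 → coeff d G₀ = 0 := by
    intro d hd
    show (∑ i, if d = single i 1 then L i else 0) = 0
    refine Finset.sum_eq_zero fun i _ => if_neg ?_
    rintro rfl
    simp at hd
  have hGs0 : ∀ N, constantCoeff (Gs N) = 0 := by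
    intro N
    induction N with
    | zero => rw [← coeff_zero_eq_constantCoeff_apply]; exact hG₀ 0 (by simp)
    | succ N ih =>
      rw [← coeff_zero_eq_constantCoeff_apply]
      show coeff 0 (step (N + 2) (Gs N)) = 0
      rw [hstep, if_neg (by simp), coeff_zero_eq_constantCoeff_apply, ih]
  have hstable : ∀ N M, N ≤ M → ∀ d, degree d ≤ N + 1 → coeff d (Gs M) = coeff d (Gs N) := by
    intro N M hNM d hd
    induction M, hNM using Nat.le_induction with
    | base => rfl
    | succ M hM ih =>
      show coeff d (step (M + 2) (Gs M)) = _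
      rw [hstep, if_neg (by omega), ih]
  let G : MvPowerSeries σ R := fun d => coeff d (Gs (degree d))
  have hGcoeff : ∀ N d, degree d ≤ N + 1 → coeff d G = coeff d (Gs N) := by
    intro N d hd
    show coeff d (Gs (degree d)) = _
    rcases le_total N (degree d) with h1 | h1
    · exact hstable N _ h1 d hd
    · exact (hstable _ N h1 d (by omega)).symm
  have hG0 : constantCoeff G = 0 := by
    rw [← coeff_zero_eq_constantCoeff_apply, hGcoeff 0 0 (by simp), coeff_zero_eq_constantCoeff_apply, hGs0]
  refine ⟨G, hG0, fun i => ?_, ?_⟩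
  · rw [hGcoeff 0 _ (by simp)]
    show (∑ j, if single i 1 = single j 1 then L j else 0) = L i
    rw [Finset.sum_eq_single i (fun j _ hj => if_neg fun h1 => hj ((Finsupp.single_left_injective one_ne_zero) h1).symm)
      (by simp), if_pos rfl]
  ext e
  rw [map_zero]
  rcases Nat.lt_or_ge (degree e) 2 with hlt | hge
  · have h1 := coeff_defect_congr (π := π) hq ε hG0 (map_zero _) (N := degree e)
      (fun d hd => by
        have hd0 : d = 0 := (Finsupp.degree_eq_zero_iff d).1 (by omega)
        rw [hd0, coeff_zero_eq_constantCoeff_apply, hG0, map_zero]) (e := e) rfl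
    rw [defect_zero (by omega), map_zero, sub_zero, sub_zero] at h1
    rw [h1]
    rcases (show degree e = 0 ∨ degree e = 1 by omega) with h2 | h2
    · rw [(Finsupp.degree_eq_zero_iff e).1 h2, coeff_zero_eq_constantCoeff_apply, hG0, mul_zero]
    · rw [h2, pow_one, sub_self, zero_mul]
  · obtain ⟨n, hn⟩ : ∃ n, degree e = n + 2 := ⟨degree e - 2, by omega⟩
    have h1 := coeff_defect_congr (π := π) hq ε hG0 (hGs0 n) (N := n + 2)
      (fun d hd => hGcoeff n d (by omega)) hn
    have h2 : coeff e G = coeff e (Gs n) - c (Gs n) e := by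
      rw [hGcoeff (n + 1) e (by omega)]
      show coeff e (step (n + 2) (Gs n)) = _
      rw [hstep, if_pos hn]
    rw [h2, hc (Gs n) e hge, hn] at h1
    linear_combination h1

/-- Divisibility of the defect when the residue field has `q` elements. -/
theorem dvd_coeff_defect [IsDomain R] [IsDiscreteValuationRing R] [Finite (IsLocalRing.ResidueField R)]
    (hπ : Irreducible π) (hq : q = Nat.card (IsLocalRing.ResidueField R)) (G : MvPowerSeries σ R)
    (e : σ →₀ ℕ) (he : 2 ≤ degree e) : π ^ degree e - π ∣ coeff e (defect π q 1 G) := by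
  classical
  let k := IsLocalRing.ResidueField R
  haveI := Fintype.ofFinite k
  obtain ⟨p, hp⟩ := CharP.exists k
  obtain ⟨n, hpp, hcard⟩ := FiniteField.card k p
  haveI := Fact.mk hpp
  have hqn : q = p ^ (n : ℕ) := by rw [hq, Nat.card_eq_fintype_card, hcard]
  have hq0 : q ≠ 0 := by rw [hqn]; exact pow_ne_zero _ hpp.ne_zero
  have hπ0 : IsLocalRing.residue R π = 0 := (IsLocalRing.residue_eq_zero_iff π).2
    (by rw [hπ.maximalIdeal_eq]; exact Ideal.mem_span_singleton_self π)
  have hzero : MvPowerSeries.map (IsLocalRing.residue R) (defect π q 1 G) = 0 := by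
    rw [defect, map_sub, map_sub, map_subst (hasSubst_h hq0), one_smul, map_pow, smul_eq_C_mul, map_mul,
      map_C, hπ0, map_zero, zero_mul, sub_zero, sub_eq_zero]
    have hfun : (fun i : σ => MvPowerSeries.map (IsLocalRing.residue R) (h π q i)) =
        fun i => (X i : MvPowerSeries σ k) ^ q := by
      funext i
      rw [h, map_add, smul_eq_C_mul, map_mul, map_C, hπ0, map_zero, zero_mul, zero_add, map_pow, map_X]
    rw [hfun]
    set Gb := MvPowerSeries.map (IsLocalRing.residue R) G
    have hid : iterateFrobenius k p (n : ℕ) = RingHom.id k := by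
      ext x
      rw [iterateFrobenius_def, RingHom.id_apply, ← hcard, FiniteField.pow_card]
    have h1 := map_iterateFrobenius_expand p hpp.ne_zero Gb (n : ℕ)
    rw [hid, map_id, RingHom.id_apply] at h1
    rw [hqn, ← h1, expand, coe_substAlgHom]
  have hdvd : π ∣ coeff e (defect π q 1 G) := by
    rw [← Ideal.mem_span_singleton, ← hπ.maximalIdeal_eq, ← IsLocalRing.residue_eq_zero_iff, ← coeff_map,
      hzero, map_zero]
  obtain ⟨m, hm⟩ : ∃ m, degree e = m + 2 := ⟨degree e - 2, by omega⟩
  have hu : IsUnit (π ^ (m + 1) - 1) := by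
    rw [← IsLocalRing.residue_ne_zero_iff_isUnit, map_sub, map_pow, hπ0, zero_pow (Nat.succ_ne_zero m),
      map_one, zero_sub]
    exact neg_ne_zero.2 one_ne_zero
  rw [hm, show π ^ (m + 2) - π = π * (π ^ (m + 1) - 1) by ring, hu.mul_right_dvd]
  exact hdvd

end LubinTateLib
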