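import Mathlib
import Groth.Agent.LubinTateLib.Basic

/-! Series commuting with `f = πT + T^q` over a discrete valuation ring with `q` residue classes. -/

set_option autoImplicit false
universe u v w

open MvPowerSeries Finsupp

namespace LubinTateLib

variable {O : Type u} [CommRing O] {π : O} {f : PowerSeries O} {σ : Type v} [Fintype σ]

/-- `G` commutes with `f`. -/
def Comm (f : PowerSeries O) (G : MvPowerSeries σ O) : Prop :=
  PowerSeries.subst G f = MvPowerSeries.subst (fun i => PowerSeries.subst (MvPowerSeries.X i : MvPowerSeries σ O) f) G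

omit [Fintype σ] in
theorem subst_f {S : Type w} [CommRing S] [Algebra O S] {q : ℕ} (hf : f = π • PowerSeries.X + PowerSeries.X ^ q)
    {G : MvPowerSeries σ S} (hG : PowerSeries.HasSubst G) :
    PowerSeries.subst G f = π • G + G ^ q := by
  rw [hf, PowerSeries.subst_add hG, PowerSeries.subst_smul hG, PowerSeries.subst_pow hG,
    PowerSeries.subst_X hG]

omit [Fintype σ] in
theorem hasSubst_of_zero {S : Type w} [CommRing S] {G : MvPowerSeries σ S} (hG : G.constantCoeff = 0) :
    PowerSeries.HasSubst G := PowerSeries.HasSubst.of_constantCoeff_zero hG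

theorem h_eq {q : ℕ} (hf : f = π • PowerSeries.X + PowerSeries.X ^ q) :
    (fun i => PowerSeries.subst (MvPowerSeries.X i : MvPowerSeries σ O) f) = h π q :=
  funext fun i => subst_f hf (PowerSeries.HasSubst.X i)

theorem comm_iff {q : ℕ} (hf : f = π • PowerSeries.X + PowerSeries.X ^ q) {G : MvPowerSeries σ O}
    (hG : G.constantCoeff = 0) : Comm f G ↔ defect π q 1 G = 0 := by
  rw [Comm, subst_f hf (hasSubst_of_zero hG), h_eq hf, defect, one_smul, sub_sub, sub_eq_zero, eq_comm]

/-- The coefficient of a variable in a composite. -/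
theorem coeff_single_subst {τ : Type w} {G : MvPowerSeries σ O} (hG : G.constantCoeff = 0)
    {H : σ → MvPowerSeries τ O} (hH : ∀ i, (H i).constantCoeff = 0) (j : τ) :
    coeff (single j 1) (subst H G) = ∑ i, coeff (single i 1) G * coeff (single j 1) (H i) := by
  classical
  rw [coeff_subst (hasSubst_of_constantCoeff_zero hH)]
  rw [finsum_eq_sum_of_support_subset _ (s := Finset.univ.image fun i : σ => single i 1)]
  · rw [Finset.sum_image (fun a _ b _ hab => (Finsupp.single_left_injective one_ne_zero) hab)]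
    refine Finset.sum_congr rfl fun i _ => ?_
    simp [Finsupp.prod_single_index]
  · intro d hd
    rw [Function.mem_support] at hd
    by_contra hmem
    apply hd
    rcases Nat.lt_or_ge (degree d) 2 with hlt | hge
    · rcases (show degree d = 0 ∨ degree d = 1 by omega) with h0 | h1
      · rw [(Finsupp.degree_eq_zero_iff d).1 h0, coeff_zero_eq_constantCoeff_apply, hG, zero_smul]
      · obtain ⟨i, rfl⟩ := exists_single_of_degree_eq_one h1
        exact absurd (Finset.mem_coe.2 (Finset.mem_image_of_mem _ (Finset.mem_univ i))) hmem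
    · refine smul_eq_zero_of_right _ (coeff_of_lt_order ?_)
      have h1 : ((degree d : ℕ) : ℕ∞) ≤ (d.prod fun s n => H s ^ n).order := by
        rw [Finsupp.prod, Finsupp.degree_apply, Nat.cast_sum]
        exact le_trans (Finset.sum_le_sum fun i _ => le_order_pow_of_constantCoeff_eq_zero _ (hH i))
          (le_order_prod _ _)
      refine lt_of_lt_of_le ?_ h1
      rw [Finsupp.degree_single]
      exact_mod_cast (by omega : 1 < degree d)

theorem Comm.subst {τ : Type w} [Fintype τ] {q : ℕ} (hf : f = π • PowerSeries.X + PowerSeries.X ^ q) (hq : q ≠ 0)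
    {G : MvPowerSeries σ O} (hG : G.constantCoeff = 0) (hGc : Comm f G)
    {H : σ → MvPowerSeries τ O} (hH : ∀ i, (H i).constantCoeff = 0) (hHc : ∀ i, Comm f (H i)) :
    Comm f (MvPowerSeries.subst H G) := by
  have hs : HasSubst H := hasSubst_of_constantCoeff_zero hH
  have h0 : (MvPowerSeries.subst H G).constantCoeff = 0 := constantCoeff_subst_eq_zero hs hH hG
  unfold Comm at hGc hHc ⊢
  rw [h_eq hf] at hGc
  simp only [h_eq hf] at hHc ⊢
  rw [subst_comp_subst_apply hs (hasSubst_h hq), ← funext hHc]
  rw [subst_f hf (hasSubst_of_zero hG)] at hGc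
  rw [subst_f hf (hasSubst_of_zero h0), ← MvPowerSeries.subst_smul hs, ← MvPowerSeries.subst_pow hs,
    ← MvPowerSeries.subst_add hs, hGc, subst_comp_subst_apply (hasSubst_h hq) hs]
  congr 1
  funext i
  rw [h, MvPowerSeries.subst_add hs, MvPowerSeries.subst_smul hs, MvPowerSeries.subst_pow hs,
    MvPowerSeries.subst_X hs, subst_f hf (hasSubst_of_zero (hH i))]

theorem comm_X {q : ℕ} (hf : f = π • PowerSeries.X + PowerSeries.X ^ q) (hq : q ≠ 0) (i : σ) :
    Comm f (MvPowerSeries.X i : MvPowerSeries σ O) := by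
  unfold Comm
  rw [h_eq hf, MvPowerSeries.subst_X (hasSubst_h hq), subst_f hf (PowerSeries.HasSubst.X i)]
  rfl

variable [IsDomain O] [IsDiscreteValuationRing O] [Finite (IsLocalRing.ResidueField O)]

theorem two_le_card : 2 ≤ Nat.card (IsLocalRing.ResidueField O) := Finite.one_lt_card

theorem pow_ne_self (hπ : Irreducible π) (N : ℕ) (hN : 2 ≤ N) : π ^ N ≠ π := by
  intro h
  obtain ⟨m, rfl⟩ : ∃ m, N = m + 2 := ⟨N - 2, by omega⟩
  rw [pow_succ] at h
  have h1 : π ^ (m + 1) = 1 := mul_right_cancel₀ hπ.ne_zero (h.trans (one_mul π).symm)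
  exact hπ.not_isUnit ((isUnit_pow_iff (Nat.succ_ne_zero m)).1 (h1 ▸ isUnit_one))

theorem Comm.ext (hπ : Irreducible π)
    (hf : f = π • PowerSeries.X + PowerSeries.X ^ Nat.card (IsLocalRing.ResidueField O))
    {G G' : MvPowerSeries σ O} (hG : G.constantCoeff = 0) (hG' : G'.constantCoeff = 0)
    (hlin : ∀ i, coeff (single i 1) G = coeff (single i 1) G') (hc : Comm f G) (hc' : Comm f G') :
    G = G' :=
  eq_of_defect_eq two_le_card 1 (pow_ne_self hπ) hG hG' hlin
    (((comm_iff hf hG).1 hc).trans ((comm_iff hf hG').1 hc').symm)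

theorem exists_comm (hπ : Irreducible π)
    (hf : f = π • PowerSeries.X + PowerSeries.X ^ Nat.card (IsLocalRing.ResidueField O)) (L : σ → O) :
    ∃ G : MvPowerSeries σ O, G.constantCoeff = 0 ∧ (∀ i, coeff (single i 1) G = L i) ∧ Comm f G := by
  obtain ⟨G, h0, h1, h2⟩ := exists_defect_eq_zero (π := π) (σ := σ) two_le_card 1
    (fun G e he => dvd_coeff_defect hπ rfl G e he) L
  exact ⟨G, h0, h1, (comm_iff hf h0).2 h2⟩

end LubinTateLib

namespace LubinTateLib

variable {O : Type u} [CommRing O] {f : PowerSeries O}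

/-- One-variable series: commuting means `f ∘ g = g ∘ f`. -/
theorem comm_unit_iff (g : PowerSeries O) :
    Comm (σ := Unit) f g ↔ PowerSeries.subst g f = PowerSeries.subst f g := by
  have hX : PowerSeries.subst (PowerSeries.X : PowerSeries O) f = f := by
    rw [← PowerSeries.map_algebraMap_eq_subst_X]
    simp
  have hfun : (fun i : Unit => PowerSeries.subst (MvPowerSeries.X i : MvPowerSeries Unit O) f) = fun _ => f :=
    funext fun _ => hX
  rw [Comm, hfun]
  rfl

theorem coeff_one_eq (g : PowerSeries O) (i : Unit) :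
    MvPowerSeries.coeff (Finsupp.single i 1) g = PowerSeries.coeff 1 g := rfl

end LubinTateLib
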